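import Cfsg.Agent.H3.Mu.L34.Tab

/-! Generated labelled table of a central extension. -/

set_option autoImplicit false
set_option maxRecDepth 100000

open Cfsg.Agent.L0

namespace Cfsg.Agent.H3.L34

noncomputable def L0Erowt0 : BT := .leaf (nat_lit 0x14a851a5126459cfa9526b264c5992a83da13a7469d127346b3509e952a5359d228526c695468d08c944a5462d48b8c113aa1c1c78404509a755293a71e2d5a75a8a527264668d24459429cb66cc892c08a983060c889842882307509d404c34b3878a94b1084221970f84a4845862032b210512b16802080aa43d24a0e78e9e3800e874840f1c9a84345184c014c482c468e4b021004454aa15c498a0001143c1a09840285449a487600222b112410647087811c34029008460b0808501822402100104070c142030404)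

noncomputable def L0Erowtree : BT := L0Erowt0

noncomputable def L0Erow : ℕ → ℕ := rowOf L0Erowtree (nat_lit 5) (nat_lit 31) (nat_lit 77) (nat_lit 0x1fffffffffffffffffff)

noncomputable def L0E : ℕ → ℕ → ℕ := pT L0Erow (nat_lit 7) (nat_lit 127)

def L0RL : List (List ℕ × ℕ) := [([nat_lit 0, nat_lit 0], nat_lit 1),
  ([nat_lit 1, nat_lit 1], nat_lit 1),
  ([nat_lit 2, nat_lit 3], nat_lit 2),
  ([nat_lit 3, nat_lit 2], nat_lit 2),
  ([nat_lit 4, nat_lit 5], nat_lit 0),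
  ([nat_lit 5, nat_lit 4], nat_lit 0),
  ([nat_lit 6, nat_lit 6], nat_lit 0),
  ([nat_lit 7, nat_lit 8], nat_lit 0),
  ([nat_lit 8, nat_lit 7], nat_lit 0),
  ([nat_lit 9, nat_lit 9], nat_lit 0),
  ([nat_lit 10, nat_lit 10], nat_lit 1),
  ([nat_lit 3, nat_lit 0, nat_lit 1, nat_lit 3, nat_lit 0, nat_lit 3, nat_lit 1, nat_lit 2, nat_lit 0, nat_lit 2, nat_lit 4], nat_lit 1),
  ([nat_lit 2, nat_lit 0, nat_lit 3, nat_lit 6], nat_lit 1),
  ([nat_lit 6, nat_lit 1, nat_lit 5, nat_lit 7], nat_lit 0),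
  ([nat_lit 5, nat_lit 6, nat_lit 4, nat_lit 9], nat_lit 0),
  ([nat_lit 7, nat_lit 9, nat_lit 8, nat_lit 10], nat_lit 2),
  ([nat_lit 1, nat_lit 0, nat_lit 1, nat_lit 0], nat_lit 2),
  ([nat_lit 9, nat_lit 0, nat_lit 9, nat_lit 0], nat_lit 1),
  ([nat_lit 9, nat_lit 1, nat_lit 9, nat_lit 1], nat_lit 1),
  ([nat_lit 10, nat_lit 0, nat_lit 10, nat_lit 0], nat_lit 2),
  ([nat_lit 10, nat_lit 1, nat_lit 10, nat_lit 1], nat_lit 2),
  ([nat_lit 10, nat_lit 9, nat_lit 10, nat_lit 9], nat_lit 1),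
  ([nat_lit 7, nat_lit 7, nat_lit 7], nat_lit 0),
  ([nat_lit 7, nat_lit 0, nat_lit 8, nat_lit 1], nat_lit 1),
  ([nat_lit 7, nat_lit 1, nat_lit 8, nat_lit 1, nat_lit 0], nat_lit 0),
  ([nat_lit 7, nat_lit 10, nat_lit 8, nat_lit 10, nat_lit 9], nat_lit 1),
  ([nat_lit 4, nat_lit 4, nat_lit 4, nat_lit 4, nat_lit 4], nat_lit 0),
  ([nat_lit 4, nat_lit 9, nat_lit 6, nat_lit 4, nat_lit 4, nat_lit 9], nat_lit 0),
  ([nat_lit 6, nat_lit 7, nat_lit 10, nat_lit 6, nat_lit 7, nat_lit 10], nat_lit 0),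
  ([nat_lit 2, nat_lit 2, nat_lit 2], nat_lit 0),
  ([nat_lit 2, nat_lit 7, nat_lit 3, nat_lit 8, nat_lit 5, nat_lit 10], nat_lit 0),
  ([nat_lit 2, nat_lit 5, nat_lit 2, nat_lit 5, nat_lit 2, nat_lit 5], nat_lit 0),
  ([nat_lit 3, nat_lit 4, nat_lit 0, nat_lit 5, nat_lit 2, nat_lit 9, nat_lit 0], nat_lit 0)]

noncomputable def L0chkf : ℕ → Bool := relChkL L0E (nat_lit 2) (nat_lit 3) (nat_lit 1) (nat_lit 3) (nat_lit 21) [nat_lit 0, nat_lit 1, nat_lit 2, nat_lit 3, nat_lit 4, nat_lit 5, nat_lit 6, nat_lit 7, nat_lit 8, nat_lit 9, nat_lit 10] L0RL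

theorem L0chkb0 : allR L0chkf 5 0 = true := by decide +kernel

theorem L0chk : ∀ c < 21, L0chkf c = true := fun c hc =>
  allR_glue (d := 5) (n := 1) (forall_lt_succ' forall_lt_zero' L0chkb0) c (lt_of_lt_of_le hc (by norm_num))

theorem L0rep : Rep 11 R (ZMod 3) 1 (valL L0RL 3) :=
  rep_of_chk (by decide +kernel) (by decide) (by decide) (by decide +kernel) (by decide +kernel)
    (by decide +kernel) le_rfl L0chk

end Cfsg.Agent.H3.L34
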