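import Cfsg.Agent.H3.Mu.L34.Tab

/-! Generated labelled table of a central extension. -/

set_option autoImplicit false
set_option maxRecDepth 100000

open Cfsg.Agent.L0

namespace Cfsg.Agent.H3.L34

noncomputable def L1Erowt0 : BT := .leaf (nat_lit 0x846ccad0c4939d878ed07a464e8140ce6d407b564d4fc9cd7e6f913c6f51cc72757595ddc9a055c63fb7dccb32d79586d83a56d752347dd530d0dfbfc1bf39677bd1bf495544ded2383344bfc42e2c3c9c7035cb5d6ec090c782538ecbc9812fb1c5bc29ac8929bbb35f60a0ad8a606258a7a728b2d03db36165675f258bb6b9be2fb56489b8adac268babafacbb2aaba76099abad594f9d246aa5a9b658b7256535236927a31c9321d27a4abb619ca29d38c13f79df1caa4fa09e589aa862999b99961f5a5e7dd387cc6c864e1f996d30181820a2d57fdd6a7d90c04c44bf50481886dd864545ad2a2ab8b36aad591b29bade14cf96558e968ddc777048be41d820bf3743174a8295756fd74d1e91926a14cf721079789d53a255d8c9ded17f1731524710777485d778353513c223324813d68416dcd67e96d5dbc15c97106b26660d5c5a8a7d91a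7aab1b10d6b65a70cc83b62b0b6b69ba9580c25a2bb66b70e5c24b26ab92b6fc20c9a9a58a5b562ab6a188a9a0c0a4345c485ced3d97a565141088dbe741579cdd652578eda4a097d961b9ca8dbd982c7094f8ea2151173824ad88cc5541d0875c7308f8f5155d98043d83f16804008063c9ec13a41d4b6d022203b9c2e053cc4ce64ca1e38117310700681c320a6cc15ccc8741531720447c41194c0c0053b2d0422b0bc2e1ab98ab88b0d5db426078bae256ab05dac63a70729a8a50222a091822e71a4373e3c1da01a01459c7e98943a1c9290011f0b4d8c885b1a2e6c843076024b5380417c3735787235137400704a336c5c0e68642964600a035c5854504c481b0044030d08403c06382c34302c2824000020001c181410080c080404)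

noncomputable def L1Erowtree : BT := L1Erowt0

noncomputable def L1Erow : ℕ → ℕ := rowOf L1Erowtree (nat_lit 6) (nat_lit 63) (nat_lit 88) (nat_lit 0xffffffffffffffffffffff)

noncomputable def L1E : ℕ → ℕ → ℕ := pT L1Erow (nat_lit 8) (nat_lit 255)

def L1RL : List (List ℕ × ℕ) := [([nat_lit 0, nat_lit 0], nat_lit 0),
  ([nat_lit 1, nat_lit 1], nat_lit 0),
  ([nat_lit 2, nat_lit 3], nat_lit 3),
  ([nat_lit 3, nat_lit 2], nat_lit 3),
  ([nat_lit 4, nat_lit 5], nat_lit 0),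
  ([nat_lit 5, nat_lit 4], nat_lit 0),
  ([nat_lit 6, nat_lit 6], nat_lit 2),
  ([nat_lit 7, nat_lit 8], nat_lit 1),
  ([nat_lit 8, nat_lit 7], nat_lit 1),
  ([nat_lit 9, nat_lit 9], nat_lit 0),
  ([nat_lit 10, nat_lit 10], nat_lit 2),
  ([nat_lit 3, nat_lit 0, nat_lit 1, nat_lit 3, nat_lit 0, nat_lit 3, nat_lit 1, nat_lit 2, nat_lit 0, nat_lit 2, nat_lit 4], nat_lit 3),
  ([nat_lit 2, nat_lit 0, nat_lit 3, nat_lit 6], nat_lit 0),
  ([nat_lit 6, nat_lit 1, nat_lit 5, nat_lit 7], nat_lit 3),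
  ([nat_lit 5, nat_lit 6, nat_lit 4, nat_lit 9], nat_lit 3),
  ([nat_lit 7, nat_lit 9, nat_lit 8, nat_lit 10], nat_lit 2),
  ([nat_lit 1, nat_lit 0, nat_lit 1, nat_lit 0], nat_lit 0),
  ([nat_lit 9, nat_lit 0, nat_lit 9, nat_lit 0], nat_lit 2),
  ([nat_lit 9, nat_lit 1, nat_lit 9, nat_lit 1], nat_lit 2),
  ([nat_lit 10, nat_lit 0, nat_lit 10, nat_lit 0], nat_lit 2),
  ([nat_lit 10, nat_lit 1, nat_lit 10, nat_lit 1], nat_lit 0),
  ([nat_lit 10, nat_lit 9, nat_lit 10, nat_lit 9], nat_lit 0),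
  ([nat_lit 7, nat_lit 7, nat_lit 7], nat_lit 0),
  ([nat_lit 7, nat_lit 0, nat_lit 8, nat_lit 1], nat_lit 3),
  ([nat_lit 7, nat_lit 1, nat_lit 8, nat_lit 1, nat_lit 0], nat_lit 3),
  ([nat_lit 7, nat_lit 10, nat_lit 8, nat_lit 10, nat_lit 9], nat_lit 0),
  ([nat_lit 4, nat_lit 4, nat_lit 4, nat_lit 4, nat_lit 4], nat_lit 1),
  ([nat_lit 4, nat_lit 9, nat_lit 6, nat_lit 4, nat_lit 4, nat_lit 9], nat_lit 0),
  ([nat_lit 6, nat_lit 7, nat_lit 10, nat_lit 6, nat_lit 7, nat_lit 10], nat_lit 2),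
  ([nat_lit 2, nat_lit 2, nat_lit 2], nat_lit 0),
  ([nat_lit 2, nat_lit 7, nat_lit 3, nat_lit 8, nat_lit 5, nat_lit 10], nat_lit 0),
  ([nat_lit 2, nat_lit 5, nat_lit 2, nat_lit 5, nat_lit 2, nat_lit 5], nat_lit 0),
  ([nat_lit 3, nat_lit 4, nat_lit 0, nat_lit 5, nat_lit 2, nat_lit 9, nat_lit 0], nat_lit 0)]

noncomputable def L1chkf : ℕ → Bool := relChkL L1E (nat_lit 2) (nat_lit 3) (nat_lit 1) (nat_lit 4) (nat_lit 56) [nat_lit 0, nat_lit 1, nat_lit 2, nat_lit 3, nat_lit 4, nat_lit 5, nat_lit 6, nat_lit 7, nat_lit 8, nat_lit 9, nat_lit 10] L1RL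

theorem L1chkb0 : allR L1chkf 6 0 = true := by decide +kernel

theorem L1chk : ∀ c < 56, L1chkf c = true := fun c hc =>
  allR_glue (d := 6) (n := 1) (forall_lt_succ' forall_lt_zero' L1chkb0) c (lt_of_lt_of_le hc (by norm_num))

theorem L1rep : Rep 11 R (ZMod 4) 1 (valL L1RL 4) :=
  rep_of_chk (by decide +kernel) (by decide) (by decide) (by decide +kernel) (by decide +kernel)
    (by decide +kernel) le_rfl L1chk

end Cfsg.Agent.H3.L34
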