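import Cfsg.Agent.H3.Mu.L34.Tab

/-! Generated labelled table of a central extension. -/

set_option autoImplicit false
set_option maxRecDepth 100000

open Cfsg.Agent.L0

namespace Cfsg.Agent.H3.L34

noncomputable def L2Erowt0 : BT := .leaf (nat_lit 0xdc68a96edab38cd3cab9ba7d64d8dbdca4baaac485b4ccd2cdd2c159c7d5d450ce50d6d5cd58d2d0c9dece52d450d2d6cf564ec060d2d4bcbd4d474646bcdfd0bfc45859c143c5d770d9a959ca57c043c6d5705a62cd4d73c8cb73494dca42b299c95aba8fa79b85d83a59a2dfdc909686b39e7a9e7e39b0da8030b485a377df99bfb48784348b95766d327b677e812d2c6ede7c3787c4dba7a9626399b8902ada4988a9a59d397827b3876bbb5a9e9da320763eb4b4238721a2a15f98b8a6221e82bcb0986f18b6ae8895805f741d3266b4183531a624653c35827d8cb9605e24de1b4219686b308297ac5f217aa5481835ac14b2b5b9aba3209edbb3b08a1b177b9896818092addb2b2a64aa3c1639b7ae91101f24a38388b466ae767b1d103d9dac1bb31f957a774f724bbc73c6c2112c57c30c6edda9682fad4e146c9b6adc2c0f6ea33455318c8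f2ad87f2867910eae7b1594a6a55f8f120e27cdc32e63995e8d608b971d52455e0ec4c7550bd2c0d5a3b8c7bcc1560b5a404acc3268714dd0cc50530a4347455fd4d0714c47cabdcc0a146fc3554844be70490a5489a442444648c84cc853c85c50084a420ac4c056bc53198f4a0a04269d763a107e37913e2422a311073cb82ab47c212216ac3192066aab903e298988b0923617ac0668579615aba80c6b2d066f7110622f667d677d0e38a426053718003ea07b8e6392052b263e3a9c1d03989f899c853b38777903221f5d989476131d94901580028f778c40882a3684801a337c026d4d67317874073a60023e2d701d116c0c682f2864600a010e5c08425854504c48010f44403c00381034302c282404022404201c1814100c080004)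

noncomputable def L2Erowtree : BT := L2Erowt0

noncomputable def L2Erow : ℕ → ℕ := rowOf L2Erowtree (nat_lit 6) (nat_lit 63) (nat_lit 88) (nat_lit 0xffffffffffffffffffffff)

noncomputable def L2E : ℕ → ℕ → ℕ := pT L2Erow (nat_lit 8) (nat_lit 255)

def L2RL : List (List ℕ × ℕ) := [([nat_lit 0, nat_lit 0], nat_lit 2),
  ([nat_lit 1, nat_lit 1], nat_lit 0),
  ([nat_lit 2, nat_lit 3], nat_lit 1),
  ([nat_lit 3, nat_lit 2], nat_lit 1),
  ([nat_lit 4, nat_lit 5], nat_lit 2),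
  ([nat_lit 5, nat_lit 4], nat_lit 2),
  ([nat_lit 6, nat_lit 6], nat_lit 2),
  ([nat_lit 7, nat_lit 8], nat_lit 3),
  ([nat_lit 8, nat_lit 7], nat_lit 3),
  ([nat_lit 9, nat_lit 9], nat_lit 0),
  ([nat_lit 10, nat_lit 10], nat_lit 0),
  ([nat_lit 3, nat_lit 0, nat_lit 1, nat_lit 3, nat_lit 0, nat_lit 3, nat_lit 1, nat_lit 2, nat_lit 0, nat_lit 2, nat_lit 4], nat_lit 2),
  ([nat_lit 2, nat_lit 0, nat_lit 3, nat_lit 6], nat_lit 3),
  ([nat_lit 6, nat_lit 1, nat_lit 5, nat_lit 7], nat_lit 0),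
  ([nat_lit 5, nat_lit 6, nat_lit 4, nat_lit 9], nat_lit 1),
  ([nat_lit 7, nat_lit 9, nat_lit 8, nat_lit 10], nat_lit 1),
  ([nat_lit 1, nat_lit 0, nat_lit 1, nat_lit 0], nat_lit 2),
  ([nat_lit 9, nat_lit 0, nat_lit 9, nat_lit 0], nat_lit 0),
  ([nat_lit 9, nat_lit 1, nat_lit 9, nat_lit 1], nat_lit 0),
  ([nat_lit 10, nat_lit 0, nat_lit 10, nat_lit 0], nat_lit 0),
  ([nat_lit 10, nat_lit 1, nat_lit 10, nat_lit 1], nat_lit 2),
  ([nat_lit 10, nat_lit 9, nat_lit 10, nat_lit 9], nat_lit 2),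
  ([nat_lit 7, nat_lit 7, nat_lit 7], nat_lit 1),
  ([nat_lit 7, nat_lit 0, nat_lit 8, nat_lit 1], nat_lit 0),
  ([nat_lit 7, nat_lit 1, nat_lit 8, nat_lit 1, nat_lit 0], nat_lit 0),
  ([nat_lit 7, nat_lit 10, nat_lit 8, nat_lit 10, nat_lit 9], nat_lit 0),
  ([nat_lit 4, nat_lit 4, nat_lit 4, nat_lit 4, nat_lit 4], nat_lit 0),
  ([nat_lit 4, nat_lit 9, nat_lit 6, nat_lit 4, nat_lit 4, nat_lit 9], nat_lit 0),
  ([nat_lit 6, nat_lit 7, nat_lit 10, nat_lit 6, nat_lit 7, nat_lit 10], nat_lit 2),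
  ([nat_lit 2, nat_lit 2, nat_lit 2], nat_lit 0),
  ([nat_lit 2, nat_lit 7, nat_lit 3, nat_lit 8, nat_lit 5, nat_lit 10], nat_lit 0),
  ([nat_lit 2, nat_lit 5, nat_lit 2, nat_lit 5, nat_lit 2, nat_lit 5], nat_lit 0),
  ([nat_lit 3, nat_lit 4, nat_lit 0, nat_lit 5, nat_lit 2, nat_lit 9, nat_lit 0], nat_lit 0)]

noncomputable def L2chkf : ℕ → Bool := relChkL L2E (nat_lit 2) (nat_lit 3) (nat_lit 1) (nat_lit 4) (nat_lit 56) [nat_lit 0, nat_lit 1, nat_lit 2, nat_lit 3, nat_lit 4, nat_lit 5, nat_lit 6, nat_lit 7, nat_lit 8, nat_lit 9, nat_lit 10] L2RL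

theorem L2chkb0 : allR L2chkf 6 0 = true := by decide +kernel

theorem L2chk : ∀ c < 56, L2chkf c = true := fun c hc =>
  allR_glue (d := 6) (n := 1) (forall_lt_succ' forall_lt_zero' L2chkb0) c (lt_of_lt_of_le hc (by norm_num))

theorem L2rep : Rep 11 R (ZMod 4) 1 (valL L2RL 4) :=
  rep_of_chk (by decide +kernel) (by decide) (by decide) (by decide +kernel) (by decide +kernel)
    (by decide +kernel) le_rfl L2chk

end Cfsg.Agent.H3.L34
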