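import Cfsg.Agent.L0.PcCert
import Cfsg.Agent.L0.Dw
import Cfsg.Agent.H3.Mu.L34.Tab

/-! Generated certificate: the `2`-part of a Schur multiplier. -/

set_option autoImplicit false
set_option maxRecDepth 100000

open Cfsg.Agent.L0

namespace Cfsg.Agent.H3.L34.P2

noncomputable def W : List (List ℕ) := [
  dw (nat_lit 4) (nat_lit 15) (nat_lit 4) (nat_lit 0x3410),
  dw (nat_lit 4) (nat_lit 15) (nat_lit 5) (nat_lit 0x52134),
  dw (nat_lit 4) (nat_lit 15) (nat_lit 5) (nat_lit 0x105a2),
  dw (nat_lit 4) (nat_lit 15) (nat_lit 6) (nat_lit 0x131740),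
  dw (nat_lit 4) (nat_lit 15) (nat_lit 3) (nat_lit 0x392),
  dw (nat_lit 4) (nat_lit 15) (nat_lit 5) (nat_lit 0xa0680),
  dw (nat_lit 4) (nat_lit 15) (nat_lit 4) (nat_lit 0x572),
  dw (nat_lit 4) (nat_lit 15) (nat_lit 5) (nat_lit 0x38535),
  dw (nat_lit 4) (nat_lit 15) (nat_lit 5) (nat_lit 0x35062)]

noncomputable def P : PcP := ⟨nat_lit 2, nat_lit 1, nat_lit 5, nat_lit 0x4104104008208204414708b280400, nat_lit 6, nat_lit 63, nat_lit 12, nat_lit 4095, nat_lit 8, nat_lit 34, nat_lit 5, nat_lit 6⟩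

noncomputable def fu : Fus := ⟨[nat_lit 32, nat_lit 16, nat_lit 8, nat_lit 4, nat_lit 2, nat_lit 1, nat_lit 32, nat_lit 16, nat_lit 1, nat_lit 42, nat_lit 21, nat_lit 2, nat_lit 1],
  [nat_lit 17, nat_lit 50, nat_lit 6, nat_lit 12, nat_lit 1, nat_lit 3, nat_lit 3, nat_lit 1, nat_lit 17, nat_lit 22, nat_lit 20, nat_lit 62, nat_lit 21],
  [nat_lit 6, nat_lit 6, nat_lit 6, nat_lit 6, nat_lit 6, nat_lit 6, nat_lit 7, nat_lit 7, nat_lit 7, nat_lit 8, nat_lit 8, nat_lit 8, nat_lit 8]⟩

noncomputable def lam : List ℕ := [nat_lit 0x7000000000000000000007007000000000007000000000000007000000005000000000000000000000000,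
  nat_lit 0x7000000000000000000000007000000000007000000000000007000000005007000000000000000000000,
  nat_lit 0x7000000000000007000000005000007000000007000000007007000000007000007000007000006000000005005000000000,
  nat_lit 0x7000000000000007000000000000000000000007000000000007000000000000007000007005007000000005007000000000,
  nat_lit 0x1000000000,
  nat_lit 0x1007000000000]

noncomputable def bs : List ℕ := [nat_lit 0x1000007000000000000,
  nat_lit 0x1000000007001000000000]

noncomputable def mo : List ℕ := [nat_lit 0x25240000ed600,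
  nat_lit 0x21b2100028600]

noncomputable def cv0 : List ℕ := [nat_lit 0x1000000000000000000000000000000000000,
  nat_lit 0x1000000000000000000000000000000000000000000000000000000,
  nat_lit 0x6000,
  nat_lit 0x6000000000000000000000000000000,
  nat_lit 0x6000000000000000000000000000000000000000000000,
  nat_lit 0x6000000000000000000000000000000000,
  nat_lit 0x6000000000000000000000000000000000000000000000000,
  nat_lit 0x6000000000000000000000000000000000000000000000000000,
  nat_lit 0x6000000000000000000000000000000000000000,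
  nat_lit 0x6000000000000000000000000000000000000000000000000000000000,
  nat_lit 0x1000000000000000000000000006000000000000000000000000,
  nat_lit 0x1000000000000002000000000000000000000000,
  nat_lit 0x7000002000000000000000000000000000000000000000000000000000,
  nat_lit 0x1000000000001000000000000000000002000000000,
  nat_lit 0x1000000000001000000000000000000000000002000000000000000000000,
  nat_lit 0x1001000000000001001000000000001000000000002000000000000000000,
  nat_lit 0x1001000000001000001000000001000000000000000000002000000000000,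
  nat_lit 0x7007007000000001007007000000000000000000006000000000000000000,
  nat_lit 0x7007000007000000007000007001000000000000000000006000000000000,
  nat_lit 0x7000000000001000000000007001000000000000000000000000000000,
  nat_lit 0x2000000000000001000000000000000007000000000000000000000000000000000000000000,
  nat_lit 0x2001000000000001000000000000000000000000000000000000000001000007,
  nat_lit 0x2000000000000000000001000000000000001000000000000000000000000000000000000000000,
  nat_lit 0x7000002000000000002000000000000001001000000000001000000000007000000000000000,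
  nat_lit 0x2000000000000000000000001000000001001000000000000000000000000001001,
  nat_lit 0x7000002000000000000001000000000000000002000000000000001000000001000000000000000,
  nat_lit 0x7000000000000000000007000000000000000000001000000000001000000000007000000000,
  nat_lit 0x7007000000000000000000000007000000000001000000000000000001007000001000000000000,
  nat_lit 0x2000000000000000000000001000000000000000000000000000000000000000000000000000007000000,
  nat_lit 0x2000000000000000000001001000000000000001000000000000000000000000000000000000000007,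
  nat_lit 0x2000000000000000000000000000000000000001000000000000000000000000000000000000000001000000,
  nat_lit 0x1000000000000000000000000000000000000000000000000000007000,
  nat_lit 0x2000000000000000000000000000000000000001000000000001000000000000000000001000001000000000000001000000,
  nat_lit 0x2000000000000000000000000000000007000001000007000000000000000000000000000000000000000000000000,
  nat_lit 0x2000000000000000000000000000001002001000000000007001000001007001000001000007000007001000007,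
  nat_lit 0x2000000000000000000000000000000000002002002001001000002004000001001001001001001001001001001001001,
  nat_lit 0x7001000000007000007007000000000007000007000001000000007000]

noncomputable def cc0 : List Con := [
  ⟨nat_lit 1, nat_lit 2, nat_lit 2, [nat_lit 8], [], nthN cv0 (nat_lit 0)⟩,
  ⟨nat_lit 1, nat_lit 3, nat_lit 3, [nat_lit 4], [], nthN cv0 (nat_lit 1)⟩,
  ⟨nat_lit 0, nat_lit 0, nat_lit 1, [nat_lit 16], [], nthN cv0 (nat_lit 2)⟩,
  ⟨nat_lit 0, nat_lit 0, nat_lit 4, [nat_lit 2], [], nthN cv0 (nat_lit 3)⟩,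
  ⟨nat_lit 0, nat_lit 0, nat_lit 5, [nat_lit 1], [], nthN cv0 (nat_lit 4)⟩,
  ⟨nat_lit 0, nat_lit 1, nat_lit 4, [nat_lit 2], [], nthN cv0 (nat_lit 5)⟩,
  ⟨nat_lit 0, nat_lit 1, nat_lit 5, [nat_lit 1], [], nthN cv0 (nat_lit 6)⟩,
  ⟨nat_lit 0, nat_lit 2, nat_lit 5, [nat_lit 1], [], nthN cv0 (nat_lit 7)⟩,
  ⟨nat_lit 0, nat_lit 3, nat_lit 4, [nat_lit 2], [], nthN cv0 (nat_lit 8)⟩,
  ⟨nat_lit 0, nat_lit 4, nat_lit 5, [nat_lit 1], [], nthN cv0 (nat_lit 9)⟩,
  ⟨nat_lit 0, nat_lit 2, nat_lit 3, [nat_lit 4], [], nthN cv0 (nat_lit 10)⟩,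
  ⟨nat_lit 1, nat_lit 2, nat_lit 2, [nat_lit 4], [], nthN cv0 (nat_lit 11)⟩,
  ⟨nat_lit 1, nat_lit 2, nat_lit 2, [nat_lit 1], [], nthN cv0 (nat_lit 12)⟩,
  ⟨nat_lit 1, nat_lit 0, nat_lit 0, [nat_lit 8], [], nthN cv0 (nat_lit 13)⟩,
  ⟨nat_lit 1, nat_lit 1, nat_lit 1, [nat_lit 4], [], nthN cv0 (nat_lit 14)⟩,
  ⟨nat_lit 1, nat_lit 0, nat_lit 0, [nat_lit 4], [], nthN cv0 (nat_lit 15)⟩,
  ⟨nat_lit 1, nat_lit 1, nat_lit 1, [nat_lit 8], [], nthN cv0 (nat_lit 16)⟩,
  ⟨nat_lit 0, nat_lit 0, nat_lit 3, [nat_lit 4], [], nthN cv0 (nat_lit 17)⟩,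
  ⟨nat_lit 0, nat_lit 1, nat_lit 2, [nat_lit 8], [], nthN cv0 (nat_lit 18)⟩,
  ⟨nat_lit 0, nat_lit 0, nat_lit 1, [nat_lit 8], [], nthN cv0 (nat_lit 19)⟩,
  ⟨nat_lit 2, nat_lit 6, nat_lit 0, [nat_lit 4, nat_lit 4], [], nthN cv0 (nat_lit 20)⟩,
  ⟨nat_lit 2, nat_lit 6, nat_lit 0, [nat_lit 0, nat_lit 0], [], nthN cv0 (nat_lit 21)⟩,
  ⟨nat_lit 2, nat_lit 6, nat_lit 0, [nat_lit 5, nat_lit 5], [], nthN cv0 (nat_lit 22)⟩,
  ⟨nat_lit 2, nat_lit 6, nat_lit 0, [nat_lit 2, nat_lit 2], [nat_lit 4], nthN cv0 (nat_lit 23)⟩,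
  ⟨nat_lit 2, nat_lit 6, nat_lit 0, [nat_lit 1, nat_lit 1], [], nthN cv0 (nat_lit 24)⟩,
  ⟨nat_lit 2, nat_lit 6, nat_lit 0, [nat_lit 3, nat_lit 3], [nat_lit 5], nthN cv0 (nat_lit 25)⟩,
  ⟨nat_lit 2, nat_lit 6, nat_lit 0, [nat_lit 2, nat_lit 0], [nat_lit 0, nat_lit 2, nat_lit 4], nthN cv0 (nat_lit 26)⟩,
  ⟨nat_lit 2, nat_lit 6, nat_lit 0, [nat_lit 3, nat_lit 0], [nat_lit 0, nat_lit 3, nat_lit 4, nat_lit 5], nthN cv0 (nat_lit 27)⟩,
  ⟨nat_lit 2, nat_lit 7, nat_lit 0, [nat_lit 7, nat_lit 7], [], nthN cv0 (nat_lit 28)⟩,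
  ⟨nat_lit 2, nat_lit 7, nat_lit 0, [nat_lit 6, nat_lit 6], [], nthN cv0 (nat_lit 29)⟩,
  ⟨nat_lit 2, nat_lit 7, nat_lit 0, [nat_lit 8, nat_lit 8], [], nthN cv0 (nat_lit 30)⟩,
  ⟨nat_lit 2, nat_lit 7, nat_lit 0, [nat_lit 7, nat_lit 6], [nat_lit 6, nat_lit 7], nthN cv0 (nat_lit 31)⟩,
  ⟨nat_lit 2, nat_lit 8, nat_lit 0, [nat_lit 12, nat_lit 12], [], nthN cv0 (nat_lit 32)⟩,
  ⟨nat_lit 2, nat_lit 8, nat_lit 0, [nat_lit 10, nat_lit 10], [], nthN cv0 (nat_lit 33)⟩,
  ⟨nat_lit 2, nat_lit 8, nat_lit 0, [nat_lit 9, nat_lit 9], [], nthN cv0 (nat_lit 34)⟩,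
  ⟨nat_lit 2, nat_lit 8, nat_lit 0, [nat_lit 11, nat_lit 11], [], nthN cv0 (nat_lit 35)⟩,
  ⟨nat_lit 2, nat_lit 8, nat_lit 0, [nat_lit 10, nat_lit 9], [nat_lit 9, nat_lit 10], nthN cv0 (nat_lit 36)⟩]

theorem con0 : allL cc0 (P.conOk fu) = true := by decide +kernel

noncomputable def CV : List (List ℕ) := [cv0]

noncomputable def MU : List (List ℕ) := [[nat_lit 0x140100a05864125000106940],
  [nat_lit 0x80000000329349e4000100884,
  nat_lit 0x140100805865125000106940],
  [nat_lit 0,
  nat_lit 0,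
  nat_lit 0x14014582e005c355d9000180740],
  [nat_lit 0x7,
  nat_lit 0x38,
  nat_lit 0x1400180000000135e92fd000080a37,
  nat_lit 0x1401408261831c61a70000000c8],
  [nat_lit 0x1800100000000226aec8e0001c0a22,
  nat_lit 0x8003000000002674b76c0001c0216,
  nat_lit 0x1c0,
  nat_lit 0x1800100000000228b6c8e000100c22,
  nat_lit 0x80030000000026b9a3ba000040626],
  [nat_lit 0x80030000000025dd93c70001809f0,
  nat_lit 0x180010000000021cc49210001801c2,
  nat_lit 0x800300000000269925b1000100426,
  nat_lit 0xe00,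
  nat_lit 0x100020000000004124962000000804,
  nat_lit 0x80030000000027543927000080056]]

noncomputable def lv : List (List (List ℕ) × ℕ × List (ℕ × List ℕ)) := [
  ([[nat_lit 2], [nat_lit 3], [nat_lit 4], [nat_lit 5]], nat_lit 0, [(nat_lit 0, []), (nat_lit 1, [nat_lit 3, nat_lit 1]), (nat_lit 2, [nat_lit 3, nat_lit 0]), (nat_lit 7, [nat_lit 3, nat_lit 2, nat_lit 1]), (nat_lit 8, [nat_lit 3]), (nat_lit 9, [nat_lit 2, nat_lit 0]), (nat_lit 10, [nat_lit 3, nat_lit 2, nat_lit 0]), (nat_lit 11, [nat_lit 2]), (nat_lit 12, [nat_lit 1]), (nat_lit 13, [nat_lit 0]), (nat_lit 14, [nat_lit 3, nat_lit 2]), (nat_lit 15, [nat_lit 2, nat_lit 1]), (nat_lit 16, [nat_lit 3, nat_lit 1, nat_lit 0]), (nat_lit 17, [nat_lit 2, nat_lit 1, nat_lit 0]), (nat_lit 18, [nat_lit 1, nat_lit 0]), (nat_lit 19, [nat_lit 3, nat_lit 2, nat_lit 1, nat_lit 0])]),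
  ([[nat_lit 0], [nat_lit 1]], nat_lit 3, [(nat_lit 3, []), (nat_lit 4, [nat_lit 1]), (nat_lit 5, [nat_lit 1, nat_lit 0]), (nat_lit 20, [nat_lit 0])])]

theorem rel0 : P.relRow (dT T W) B 0 = true := by decide +kernel
theorem rel1 : P.relRow (dT T W) B 1 = true := by decide +kernel
theorem rel2 : P.relRow (dT T W) B 2 = true := by decide +kernel
theorem rel3 : P.relRow (dT T W) B 3 = true := by decide +kernel
theorem rel4 : P.relRow (dT T W) B 4 = true := by decide +kernel
theorem rel5 : P.relRow (dT T W) B 5 = true := by decide +kernel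
theorem fus0 : P.fusOk (dT T W) B fu 0 = true := by decide +kernel
theorem fus1 : P.fusOk (dT T W) B fu 1 = true := by decide +kernel
theorem fus2 : P.fusOk (dT T W) B fu 2 = true := by decide +kernel
theorem fus3 : P.fusOk (dT T W) B fu 3 = true := by decide +kernel
theorem fus4 : P.fusOk (dT T W) B fu 4 = true := by decide +kernel
theorem fus5 : P.fusOk (dT T W) B fu 5 = true := by decide +kernel
theorem fus6 : P.fusOk (dT T W) B fu 6 = true := by decide +kernel
theorem fus7 : P.fusOk (dT T W) B fu 7 = true := by decide +kernel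
theorem fus8 : P.fusOk (dT T W) B fu 8 = true := by decide +kernel
theorem fus9 : P.fusOk (dT T W) B fu 9 = true := by decide +kernel
theorem fus10 : P.fusOk (dT T W) B fu 10 = true := by decide +kernel
theorem fus11 : P.fusOk (dT T W) B fu 11 = true := by decide +kernel
theorem fus12 : P.fusOk (dT T W) B fu 12 = true := by decide +kernel
theorem fin0 : P.finRow lam (bs :: CV) MU 0 = true := by decide +kernel
theorem fin1 : P.finRow lam (bs :: CV) MU 1 = true := by decide +kernel
theorem fin2 : P.finRow lam (bs :: CV) MU 2 = true := by decide +kernel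
theorem fin3 : P.finRow lam (bs :: CV) MU 3 = true := by decide +kernel
theorem fin4 : P.finRow lam (bs :: CV) MU 4 = true := by decide +kernel
theorem fin5 : P.finRow lam (bs :: CV) MU 5 = true := by decide +kernel

theorem pm {G : Type*} [Group G] [Finite G] {A : RAct G 21} {g : ℕ → G} (hb : A.IsBase B)
    (h : A.Tab g 11 T) (ho : Nat.card G = 20160) : PMult G 2 2 2 :=
  pmult_of_tab hb h ho P (show Nat.Prime 2 by norm_num) W fu 2 lam bs mo [cc0] CV MU lv 13
    (by decide +kernel) (forall_lt_succ' (forall_lt_succ' (forall_lt_succ' (forall_lt_succ' (forall_lt_succ' (forall_lt_succ' forall_lt_zero' rel0) rel1) rel2) rel3) rel4) rel5) (by decide +kernel)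
    (forall_lt_succ' (forall_lt_succ' (forall_lt_succ' (forall_lt_succ' (forall_lt_succ' (forall_lt_succ' (forall_lt_succ' (forall_lt_succ' (forall_lt_succ' (forall_lt_succ' (forall_lt_succ' (forall_lt_succ' (forall_lt_succ' forall_lt_zero' fus0) fus1) fus2) fus3) fus4) fus5) fus6) fus7) fus8) fus9) fus10) fus11) fus12)
    (by decide +kernel) (by decide +kernel) (by decide +kernel) (by decide +kernel)
    (List.forall_mem_cons.mpr ⟨con0, (by simp)⟩)
    (forall_lt_succ' (forall_lt_succ' (forall_lt_succ' (forall_lt_succ' (forall_lt_succ' (forall_lt_succ' forall_lt_zero' fin0) fin1) fin2) fin3) fin4) fin5) (by decide +kernel)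

end Cfsg.Agent.H3.L34.P2
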