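import Cfsg.Agent.L0.CosetChain

/-! Generated coset table certificate. -/

set_option autoImplicit false
set_option maxRecDepth 100000

open Cfsg.Agent.L0

namespace Cfsg.Agent.H3.L34.Tc0

noncomputable def t0 : BT := .node (.node (.leaf (nat_lit 0x2bc156b28a90ee37a0c6b49549aa005482322961d133225351398479b38e67924e845319688529047078891229bc8c533488224ad08710051487319001398c30d79a64009314c6429bd84111d60824918f0444aa138a8011530cd0b4b248220040d4b003c886003a470801a0060016472188600500124311042004000e9c80c827188862510800600140042084c436208c424ac0200880220088022008802200800600108022008000)) (.leaf (nat_lit 0x76aa52ad249d2854714d076710506d51d2b2eae56738512b42ad55c9254ca872b188c72098eb437d3392a296758218e4c61a68564951e6899266457104d8795ce625148e62094a0f264490756c89d277a894bdfc84d39048486a4e0ae6208ccb914228f8949eb06f1a3))) (.leaf (nat_lit 0x3b20ad32a44e8d3b288243c30b092b149ed493f471938a723149f1179be473994d44121b1671894e1958c9cc673490838a8e752bd5e8d46b49cc424c824c3c641193dc55839e28c5955c43594184e71ba0518d36256b882335ccda727c4b302814dae37b49ab48aa8d112e64c41248411935aa2691104d792c8ac632653f88a44391ca4e4820af0393c82327551882848a4c9544754a0d24fa14ea5721046b5990ca7781dd2e24c8e2))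

noncomputable def tree : BT := t0

noncomputable def row : ℕ → ℕ := rowOf tree (nat_lit 3) (nat_lit 7) (nat_lit 169) (nat_lit 0x1ffffffffffffffffffffffffffffffffffffffffff)

noncomputable def cols : List Col := [⟨nat_lit 15, nat_lit 1, [([nat_lit 15], nat_lit 0), ([nat_lit 57, nat_lit 99, nat_lit 43], nat_lit 0), ([nat_lit 29, nat_lit 15, nat_lit 29], nat_lit 0), ([nat_lit 141, nat_lit 15, nat_lit 141], nat_lit 0), ([nat_lit 127, nat_lit 29, nat_lit 113], nat_lit 0), ([nat_lit 85, nat_lit 43, nat_lit 141, nat_lit 15, nat_lit 57, nat_lit 71], nat_lit 0), ([nat_lit 29, nat_lit 57, nat_lit 15, nat_lit 57, nat_lit 29, nat_lit 43, nat_lit 15, nat_lit 43, nat_lit 71, nat_lit 57], nat_lit 0), ([nat_lit 43, nat_lit 71, nat_lit 57, nat_lit 15, nat_lit 29, nat_lit 57, nat_lit 15, nat_lit 57, nat_lit 29, nat_lit 43], nat_lit 0)]⟩,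
  ⟨nat_lit 29, nat_lit 1, [([nat_lit 29], nat_lit 0), ([nat_lit 85, nat_lit 113, nat_lit 99], nat_lit 0), ([nat_lit 15, nat_lit 29, nat_lit 15], nat_lit 0), ([nat_lit 141, nat_lit 29, nat_lit 141], nat_lit 0), ([nat_lit 113, nat_lit 15, nat_lit 127], nat_lit 0), ([nat_lit 57, nat_lit 15, nat_lit 57, nat_lit 29, nat_lit 43, nat_lit 15, nat_lit 43, nat_lit 71, nat_lit 57, nat_lit 15], nat_lit 0)]⟩,
  ⟨nat_lit 43, nat_lit 0, [([nat_lit 57], nat_lit 0), ([nat_lit 43, nat_lit 43], nat_lit 0), ([nat_lit 85, nat_lit 43, nat_lit 85, nat_lit 43, nat_lit 85], nat_lit 0), ([nat_lit 15, nat_lit 57, nat_lit 99], nat_lit 0)]⟩,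
  ⟨nat_lit 57, nat_lit 0, [([nat_lit 43], nat_lit 0), ([nat_lit 127, nat_lit 85, nat_lit 155, nat_lit 43, nat_lit 113], nat_lit 0), ([nat_lit 99, nat_lit 43, nat_lit 15], nat_lit 0), ([nat_lit 71, nat_lit 15, nat_lit 85, nat_lit 43, nat_lit 141, nat_lit 15], nat_lit 0)]⟩,
  ⟨nat_lit 71, nat_lit 1, [([nat_lit 85], nat_lit 0), ([nat_lit 141, nat_lit 85, nat_lit 99], nat_lit 0), ([nat_lit 57, nat_lit 15, nat_lit 29, nat_lit 57, nat_lit 15, nat_lit 57, nat_lit 29, nat_lit 43, nat_lit 15, nat_lit 43], nat_lit 0), ([nat_lit 71, nat_lit 71, nat_lit 71, nat_lit 71], nat_lit 0), ([nat_lit 141, nat_lit 99, nat_lit 71, nat_lit 71, nat_lit 141], nat_lit 0), ([nat_lit 15, nat_lit 85, nat_lit 43, nat_lit 141, nat_lit 15, nat_lit 57], nat_lit 0)]⟩,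
  ⟨nat_lit 85, nat_lit 1, [([nat_lit 71], nat_lit 0), ([nat_lit 113, nat_lit 99, nat_lit 29], nat_lit 0), ([nat_lit 99, nat_lit 71, nat_lit 141], nat_lit 0), ([nat_lit 155, nat_lit 43, nat_lit 113, nat_lit 57, nat_lit 127], nat_lit 0)]⟩,
  ⟨nat_lit 99, nat_lit 1, [([nat_lit 99], nat_lit 0), ([nat_lit 43, nat_lit 15, nat_lit 57], nat_lit 0), ([nat_lit 71, nat_lit 141, nat_lit 85], nat_lit 0), ([nat_lit 29, nat_lit 85, nat_lit 113], nat_lit 0), ([nat_lit 113, nat_lit 155, nat_lit 99, nat_lit 113, nat_lit 155], nat_lit 0)]⟩,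
  ⟨nat_lit 113, nat_lit 1, [([nat_lit 127], nat_lit 0), ([nat_lit 113, nat_lit 113], nat_lit 0), ([nat_lit 15, nat_lit 127, nat_lit 29], nat_lit 0), ([nat_lit 57, nat_lit 127, nat_lit 85, nat_lit 155, nat_lit 43], nat_lit 0), ([nat_lit 99, nat_lit 29, nat_lit 85], nat_lit 0), ([nat_lit 141, nat_lit 127, nat_lit 155], nat_lit 0), ([nat_lit 155, nat_lit 99, nat_lit 113, nat_lit 155, nat_lit 99], nat_lit 0)]⟩,
  ⟨nat_lit 127, nat_lit 1, [([nat_lit 113], nat_lit 0), ([nat_lit 155, nat_lit 113, nat_lit 141], nat_lit 0), ([nat_lit 29, nat_lit 113, nat_lit 15], nat_lit 0), ([nat_lit 29, nat_lit 15, nat_lit 113, nat_lit 29], nat_lit 0), ([nat_lit 85, nat_lit 155, nat_lit 43, nat_lit 113, nat_lit 57], nat_lit 0)]⟩,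
  ⟨nat_lit 141, nat_lit 1, [([nat_lit 141], nat_lit 0), ([nat_lit 127, nat_lit 155, nat_lit 113], nat_lit 0), ([nat_lit 85, nat_lit 99, nat_lit 71], nat_lit 0), ([nat_lit 15, nat_lit 141, nat_lit 15], nat_lit 0), ([nat_lit 155, nat_lit 141, nat_lit 155], nat_lit 0), ([nat_lit 15, nat_lit 57, nat_lit 71, nat_lit 15, nat_lit 85, nat_lit 43], nat_lit 0)]⟩,
  ⟨nat_lit 155, nat_lit 1, [([nat_lit 155], nat_lit 0), ([nat_lit 113, nat_lit 141, nat_lit 127], nat_lit 0), ([nat_lit 15, nat_lit 155, nat_lit 15], nat_lit 0), ([nat_lit 29, nat_lit 155, nat_lit 29], nat_lit 0), ([nat_lit 141, nat_lit 113, nat_lit 155, nat_lit 127], nat_lit 0), ([nat_lit 99, nat_lit 113, nat_lit 155, nat_lit 99, nat_lit 113], nat_lit 0), ([nat_lit 43, nat_lit 113, nat_lit 57, nat_lit 127, nat_lit 85], nat_lit 0)]⟩]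

noncomputable def erots : List (List ℕ × ℕ) := []

noncomputable def gens : List ℕ := [nat_lit 15, nat_lit 29, nat_lit 43, nat_lit 57, nat_lit 71, nat_lit 85, nat_lit 99, nat_lit 113, nat_lit 127, nat_lit 141, nat_lit 155]

noncomputable def chk : ℕ → Bool := chkRow0 row (nat_lit 21) (nat_lit 0x1f) (nat_lit 0x3e0) (nat_lit 10) (nat_lit 0xf) (nat_lit 0) (nat_lit 0x1f) (nat_lit 5) (nat_lit 0xff) (nat_lit 0x6000) [] cols gens

theorem b0 : allR chk 5 0 = true := by decide +kernel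

noncomputable def T : CT := ⟨row, nat_lit 21, nat_lit 21, nat_lit 0x1f, nat_lit 0x3e0, nat_lit 10, nat_lit 0xf, nat_lit 0, nat_lit 0x1f, nat_lit 5, nat_lit 0xff, nat_lit 0x6000, nat_lit 169, nat_lit 169, nat_lit 0, nat_lit 11, [], cols, erots, gens⟩

theorem all : ∀ c < 21, chk c = true := fun c hc =>
  allR_glue (d := 5) (n := 1) (forall_lt_succ' forall_lt_zero' b0) c (lt_of_lt_of_le hc (by norm_num))

/-- the relators used -/
def R : List (List ℕ) := [[nat_lit 0, nat_lit 0],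
  [nat_lit 1, nat_lit 1],
  [nat_lit 2, nat_lit 3],
  [nat_lit 4, nat_lit 5],
  [nat_lit 6, nat_lit 6],
  [nat_lit 7, nat_lit 8],
  [nat_lit 9, nat_lit 9],
  [nat_lit 10, nat_lit 10],
  [nat_lit 3, nat_lit 0, nat_lit 1, nat_lit 3, nat_lit 0, nat_lit 3, nat_lit 1, nat_lit 2, nat_lit 0, nat_lit 2, nat_lit 4],
  [nat_lit 2, nat_lit 0, nat_lit 3, nat_lit 6],
  [nat_lit 6, nat_lit 1, nat_lit 5, nat_lit 7],
  [nat_lit 5, nat_lit 6, nat_lit 4, nat_lit 9],
  [nat_lit 7, nat_lit 9, nat_lit 8, nat_lit 10],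
  [nat_lit 1, nat_lit 0, nat_lit 1, nat_lit 0],
  [nat_lit 9, nat_lit 0, nat_lit 9, nat_lit 0],
  [nat_lit 9, nat_lit 1, nat_lit 9, nat_lit 1],
  [nat_lit 10, nat_lit 0, nat_lit 10, nat_lit 0],
  [nat_lit 10, nat_lit 1, nat_lit 10, nat_lit 1],
  [nat_lit 10, nat_lit 9, nat_lit 10, nat_lit 9],
  [nat_lit 7, nat_lit 7, nat_lit 7],
  [nat_lit 7, nat_lit 0, nat_lit 8, nat_lit 1],
  [nat_lit 7, nat_lit 1, nat_lit 8, nat_lit 1, nat_lit 0],
  [nat_lit 7, nat_lit 10, nat_lit 8, nat_lit 10, nat_lit 9],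
  [nat_lit 4, nat_lit 4, nat_lit 4, nat_lit 4, nat_lit 4],
  [nat_lit 4, nat_lit 9, nat_lit 6, nat_lit 4, nat_lit 4, nat_lit 9],
  [nat_lit 6, nat_lit 7, nat_lit 10, nat_lit 6, nat_lit 7, nat_lit 10],
  [nat_lit 2, nat_lit 2, nat_lit 2],
  [nat_lit 2, nat_lit 7, nat_lit 3, nat_lit 8, nat_lit 5, nat_lit 10],
  [nat_lit 2, nat_lit 5, nat_lit 2, nat_lit 5, nat_lit 2, nat_lit 5],
  [nat_lit 3, nat_lit 4, nat_lit 0, nat_lit 5, nat_lit 2, nat_lit 9, nat_lit 0]]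

theorem cert : Cert T (R.map fun r => (r, 0)) ([0, 1, 4, 5, 6, 7, 8, 9, 10].map fun y => (y, 0)) 15 14 [0, 1, 2, 3, 4, 5, 6, 7, 8, 9, 10] :=
  ⟨by decide +kernel, ⟨[[(0, 0), (9, 1), (13, 1), (14, 1), (20, 1), (29, 2), (8, 1), (8, 8)], [(1, 0), (10, 1), (13, 0), (15, 1), (20, 3), (8, 2)], [(2, 0), (26, 0), (28, 0), (9, 0)], [(2, 1), (27, 2), (9, 2), (29, 0)], [(3, 0), (11, 2), (8, 10), (23, 0), (24, 0), (29, 1)], [(3, 1), (10, 2), (11, 0), (27, 4)], [(4, 0), (9, 3), (11, 1), (10, 0), (25, 0)], [(5, 0), (19, 0), (20, 0), (27, 1), (10, 3), (12, 0), (25, 1)], [(5, 1), (12, 2), (20, 2), (21, 2), (27, 3)], [(6, 0), (12, 1), (11, 3), (14, 0), (18, 1), (29, 5)], [(7, 0), (12, 3), (16, 0), (17, 0), (22, 3), (25, 2), (27, 5)]], [], by decide +kernel⟩, by decide +kernel, Or.inl ⟨rfl, all⟩⟩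

theorem bound {Γ : Type*} [Group Γ] {x : ℕ → Γ} (hR : ∀ r ∈ R, ev x r = 1) {n : ℕ}
    (h : CardLe x [0, 1, 4, 5, 6, 7, 8, 9, 10] n) : CardLe x [0, 1, 2, 3, 4, 5, 6, 7, 8, 9, 10] (21 * n) :=
  cert.cardLe rfl hR h

end Cfsg.Agent.H3.L34.Tc0
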