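import Cfsg.Agent.L0.CosetChain

/-! Generated coset table certificate. -/

set_option autoImplicit false
set_option maxRecDepth 100000

open Cfsg.Agent.L0

namespace Cfsg.Agent.H3.L34.Tc1

noncomputable def t0 : BT := .node (.node (.leaf (nat_lit 0x478a4b1044c498d9b9cd55800000037b995f3506b8eec74594951044aa94e88000000ec76f3cba150646453159d34a5a08989c00000035cd3a1218549ca33656352d4a8014009800000107141141e1457f3c10c6c6f41080490d40000003108022ae800210cf007c11288600e410800000000d0062a000058028012008003a08400c000000219000aa180802401200900400800300100000004012008000)) (.leaf (nat_lit 0x75a3c514cee72b12abb104a0000003c51de9a811c932054f3292939082554400000009865056864f0937c95290874e8a5350480000003749e65280e1909a6636b839b651a78f8000000088541241e3))) (.leaf (nat_lit 0x411a4112a15304b7a84535600000035a9b4d488a9088e3442208f2a10ea44680000008cb4644ee2712a9254631ed43521990460000002821497280b21490b5072245b9ac6f6990000000823844c3828f364212968c59463a21da8000000222504707890454ed4b2d4b1a4cd9092480000014af9175221496a089c67166627411121e00000026423e742054e762e434208b4d2a6bb43800000186c456cee1))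

noncomputable def tree : BT := t0

noncomputable def row : ℕ → ℕ := rowOf tree (nat_lit 3) (nat_lit 7) (nat_lit 158) (nat_lit 0x3fffffffffffffffffffffffffffffffffffffff)

noncomputable def cols : List Col := [⟨nat_lit 15, nat_lit 1, [([nat_lit 15], nat_lit 0), ([nat_lit 119, nat_lit 28, nat_lit 106], nat_lit 0), ([nat_lit 28, nat_lit 15, nat_lit 28], nat_lit 0)]⟩,
  ⟨nat_lit 28, nat_lit 1, [([nat_lit 28], nat_lit 0), ([nat_lit 80, nat_lit 106, nat_lit 93], nat_lit 0), ([nat_lit 15, nat_lit 28, nat_lit 15], nat_lit 0), ([nat_lit 145, nat_lit 28, nat_lit 145], nat_lit 0), ([nat_lit 15, nat_lit 106, nat_lit 28, nat_lit 119], nat_lit 0)]⟩,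
  ⟨nat_lit 67, nat_lit 0, [([nat_lit 80], nat_lit 0), ([nat_lit 67, nat_lit 67, nat_lit 67, nat_lit 67], nat_lit 0), ([nat_lit 132, nat_lit 80, nat_lit 93], nat_lit 0), ([nat_lit 67, nat_lit 132, nat_lit 67, nat_lit 132, nat_lit 93], nat_lit 0)]⟩,
  ⟨nat_lit 80, nat_lit 0, [([nat_lit 67], nat_lit 0), ([nat_lit 106, nat_lit 93, nat_lit 28], nat_lit 0), ([nat_lit 93, nat_lit 67, nat_lit 132], nat_lit 0)]⟩,
  ⟨nat_lit 93, nat_lit 0, [([nat_lit 93], nat_lit 0), ([nat_lit 67, nat_lit 67, nat_lit 132, nat_lit 67, nat_lit 132], nat_lit 0), ([nat_lit 28, nat_lit 80, nat_lit 106], nat_lit 0), ([nat_lit 67, nat_lit 132, nat_lit 80], nat_lit 0), ([nat_lit 106, nat_lit 145, nat_lit 93, nat_lit 106, nat_lit 145], nat_lit 0)]⟩,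
  ⟨nat_lit 106, nat_lit 1, [([nat_lit 119], nat_lit 0), ([nat_lit 106, nat_lit 106], nat_lit 0), ([nat_lit 93, nat_lit 28, nat_lit 80], nat_lit 0), ([nat_lit 132, nat_lit 119, nat_lit 145], nat_lit 0), ([nat_lit 28, nat_lit 119, nat_lit 28, nat_lit 15], nat_lit 0)]⟩,
  ⟨nat_lit 119, nat_lit 1, [([nat_lit 106], nat_lit 0), ([nat_lit 28, nat_lit 106, nat_lit 15], nat_lit 0)]⟩,
  ⟨nat_lit 132, nat_lit 1, [([nat_lit 132], nat_lit 0), ([nat_lit 80, nat_lit 93, nat_lit 67], nat_lit 0), ([nat_lit 119, nat_lit 145, nat_lit 106], nat_lit 0), ([nat_lit 28, nat_lit 132, nat_lit 28], nat_lit 0), ([nat_lit 15, nat_lit 132, nat_lit 15], nat_lit 0), ([nat_lit 145, nat_lit 132, nat_lit 145], nat_lit 0)]⟩,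
  ⟨nat_lit 145, nat_lit 1, [([nat_lit 145], nat_lit 0), ([nat_lit 106, nat_lit 132, nat_lit 119], nat_lit 0), ([nat_lit 15, nat_lit 145, nat_lit 15], nat_lit 0), ([nat_lit 93, nat_lit 106, nat_lit 145, nat_lit 93, nat_lit 106], nat_lit 0), ([nat_lit 132, nat_lit 145, nat_lit 132], nat_lit 0), ([nat_lit 132, nat_lit 106, nat_lit 145, nat_lit 119], nat_lit 0)]⟩]

noncomputable def erots : List (List ℕ × ℕ) := []

noncomputable def gens : List ℕ := [nat_lit 15, nat_lit 28, nat_lit 67, nat_lit 80, nat_lit 93, nat_lit 106, nat_lit 119, nat_lit 132, nat_lit 145]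

noncomputable def chk : ℕ → Bool := chkRow0 row (nat_lit 20) (nat_lit 0x1f) (nat_lit 0x3e0) (nat_lit 10) (nat_lit 0x7) (nat_lit 0) (nat_lit 0x1f) (nat_lit 5) (nat_lit 0xff) (nat_lit 0x6000) [] cols gens

theorem b0 : allR chk 5 0 = true := by decide +kernel

noncomputable def T : CT := ⟨row, nat_lit 20, nat_lit 20, nat_lit 0x1f, nat_lit 0x3e0, nat_lit 10, nat_lit 0x7, nat_lit 0, nat_lit 0x1f, nat_lit 5, nat_lit 0xff, nat_lit 0x6000, nat_lit 158, nat_lit 158, nat_lit 0, nat_lit 6, [], cols, erots, gens⟩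

theorem all : ∀ c < 20, chk c = true := fun c hc =>
  allR_glue (d := 5) (n := 1) (forall_lt_succ' forall_lt_zero' b0) c (lt_of_lt_of_le hc (by norm_num))

/-- the relators used -/
def R : List (List ℕ) := [[nat_lit 0, nat_lit 0],
  [nat_lit 1, nat_lit 1],
  [nat_lit 4, nat_lit 5],
  [nat_lit 6, nat_lit 6],
  [nat_lit 7, nat_lit 8],
  [nat_lit 9, nat_lit 9],
  [nat_lit 10, nat_lit 10],
  [nat_lit 6, nat_lit 1, nat_lit 5, nat_lit 7],
  [nat_lit 5, nat_lit 6, nat_lit 4, nat_lit 9],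
  [nat_lit 7, nat_lit 9, nat_lit 8, nat_lit 10],
  [nat_lit 1, nat_lit 0, nat_lit 1, nat_lit 0],
  [nat_lit 9, nat_lit 0, nat_lit 9, nat_lit 0],
  [nat_lit 9, nat_lit 1, nat_lit 9, nat_lit 1],
  [nat_lit 10, nat_lit 0, nat_lit 10, nat_lit 0],
  [nat_lit 10, nat_lit 1, nat_lit 10, nat_lit 1],
  [nat_lit 10, nat_lit 9, nat_lit 10, nat_lit 9],
  [nat_lit 7, nat_lit 7, nat_lit 7],
  [nat_lit 7, nat_lit 0, nat_lit 8, nat_lit 1],
  [nat_lit 7, nat_lit 1, nat_lit 8, nat_lit 1, nat_lit 0],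
  [nat_lit 7, nat_lit 10, nat_lit 8, nat_lit 10, nat_lit 9],
  [nat_lit 4, nat_lit 4, nat_lit 4, nat_lit 4, nat_lit 4],
  [nat_lit 4, nat_lit 9, nat_lit 6, nat_lit 4, nat_lit 4, nat_lit 9],
  [nat_lit 6, nat_lit 7, nat_lit 10, nat_lit 6, nat_lit 7, nat_lit 10]]

theorem cert : Cert T (R.map fun r => (r, 0)) ([0, 1, 7, 8, 9, 10].map fun y => (y, 0)) 15 13 [0, 1, 4, 5, 6, 7, 8, 9, 10] :=
  ⟨by decide +kernel, ⟨[[(0, 0), (17, 1), (10, 1)], [(1, 0), (7, 1), (10, 0), (14, 1), (18, 3)], [(2, 0), (20, 0), (8, 2), (21, 3)], [(2, 1), (7, 2), (8, 0)], [(3, 0), (21, 2), (7, 0), (8, 1), (22, 0)], [(4, 0), (16, 0), (7, 3), (9, 0), (18, 0)], [(4, 1), (17, 2)], [(5, 0), (8, 3), (9, 1), (12, 0), (11, 0), (15, 1)], [(6, 0), (9, 3), (13, 0), (22, 2), (15, 0), (19, 3)]], [], by decide +kernel⟩, by decide +kernel, Or.inl ⟨rfl, all⟩⟩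

theorem bound {Γ : Type*} [Group Γ] {x : ℕ → Γ} (hR : ∀ r ∈ R, ev x r = 1) {n : ℕ}
    (h : CardLe x [0, 1, 7, 8, 9, 10] n) : CardLe x [0, 1, 4, 5, 6, 7, 8, 9, 10] (20 * n) :=
  cert.cardLe rfl hR h

end Cfsg.Agent.H3.L34.Tc1
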