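import Cfsg.Agent.L0.CosetChain

/-! Generated coset table certificate. -/

set_option autoImplicit false
set_option maxRecDepth 100000

open Cfsg.Agent.L0

namespace Cfsg.Agent.H3.L34.Tc3

noncomputable def t0 : BT := .node (.leaf (nat_lit 0x4449b800000000000000000009b6a2a7e080e44400000000000000000004d911139840680c000000000000000000022268686c28853580000000000000000001352682fc001688400000000000000000009a533973000a01200000000000000000004429988d8004007000000000000000000000644244000140200000000000000000000018020000)) (.leaf (nat_lit 0x458d340000000000000000000ab977c7e5a296940000000000000000000556f41bf2113b480000000000000000000390556df8c8993800000000000000000002242aa6fc50208980000000000000000000d1d54b732a2468a000000000000000000071f2393f0d11a6f000000000000000000044571a9f8403d1180000000000000000001a238c4e62))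

noncomputable def tree : BT := t0

noncomputable def row : ℕ → ℕ := rowOf tree (nat_lit 3) (nat_lit 7) (nat_lit 137) (nat_lit 0x1ffffffffffffffffffffffffffffffffff)

noncomputable def cols : List Col := [⟨nat_lit 16, nat_lit 0, [([nat_lit 16], nat_lit 0), ([nat_lit 27, nat_lit 16, nat_lit 27], nat_lit 0), ([nat_lit 115, nat_lit 16, nat_lit 115], nat_lit 0), ([nat_lit 126, nat_lit 16, nat_lit 126], nat_lit 0)]⟩,
  ⟨nat_lit 27, nat_lit 0, [([nat_lit 27], nat_lit 0), ([nat_lit 115, nat_lit 27, nat_lit 115], nat_lit 0), ([nat_lit 126, nat_lit 27, nat_lit 126], nat_lit 0)]⟩,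
  ⟨nat_lit 115, nat_lit 0, [([nat_lit 115], nat_lit 0), ([nat_lit 126, nat_lit 115, nat_lit 126], nat_lit 0)]⟩,
  ⟨nat_lit 126, nat_lit 0, [([nat_lit 126], nat_lit 0)]⟩]

noncomputable def erots : List (List ℕ × ℕ) := []

noncomputable def gens : List ℕ := [nat_lit 16, nat_lit 27, nat_lit 115, nat_lit 126]

noncomputable def chk : ℕ → Bool := chkRow0 row (nat_lit 16) (nat_lit 0x1f) (nat_lit 0xe0) (nat_lit 8) (nat_lit 0x7) (nat_lit 0) (nat_lit 0x1f) (nat_lit 5) (nat_lit 0xff) (nat_lit 0xe000) [] cols gens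

theorem b0 : allR chk 4 0 = true := by decide +kernel

noncomputable def T : CT := ⟨row, nat_lit 16, nat_lit 16, nat_lit 0x1f, nat_lit 0xe0, nat_lit 8, nat_lit 0x7, nat_lit 0, nat_lit 0x1f, nat_lit 5, nat_lit 0xff, nat_lit 0xe000, nat_lit 137, nat_lit 137, nat_lit 0, nat_lit 4, [], cols, erots, gens⟩

theorem all : ∀ c < 16, chk c = true := fun c hc =>
  allR_glue (d := 4) (n := 1) (forall_lt_succ' forall_lt_zero' b0) c (lt_of_lt_of_le hc (by norm_num))

/-- the relators used -/
def R : List (List ℕ) := [[nat_lit 0, nat_lit 0],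
  [nat_lit 1, nat_lit 1],
  [nat_lit 9, nat_lit 9],
  [nat_lit 10, nat_lit 10],
  [nat_lit 1, nat_lit 0, nat_lit 1, nat_lit 0],
  [nat_lit 9, nat_lit 0, nat_lit 9, nat_lit 0],
  [nat_lit 9, nat_lit 1, nat_lit 9, nat_lit 1],
  [nat_lit 10, nat_lit 0, nat_lit 10, nat_lit 0],
  [nat_lit 10, nat_lit 1, nat_lit 10, nat_lit 1],
  [nat_lit 10, nat_lit 9, nat_lit 10, nat_lit 9]]

theorem cert : Cert T (R.map fun r => (r, 0)) ([].map fun y => (y, 0)) 16 11 [0, 1, 9, 10] :=
  ⟨by decide +kernel, ⟨[[(0, 0), (4, 1), (5, 1), (7, 1)], [(1, 0), (6, 1), (8, 1)], [(2, 0), (9, 1)], [(3, 0)]], [], by decide +kernel⟩, by decide +kernel, Or.inl ⟨rfl, all⟩⟩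

theorem bound {Γ : Type*} [Group Γ] {x : ℕ → Γ} (hR : ∀ r ∈ R, ev x r = 1) {n : ℕ}
    (h : CardLe x [] n) : CardLe x [0, 1, 9, 10] (16 * n) :=
  cert.cardLe rfl hR h

end Cfsg.Agent.H3.L34.Tc3
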