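import Cfsg.Agent.H3.Mu.L34.Tab
import Cfsg.Agent.H3.Fld

/-! Generated vectors and matrices. -/

set_option autoImplicit false
set_option maxRecDepth 100000

open Cfsg.Agent.L0

namespace Cfsg.Agent.H3.L34

open Vec

noncomputable def Vt0 : BT := .leaf (nat_lit 0x1439669765b75f55934509345131851)

noncomputable def Vtree : BT := Vt0

noncomputable def V : ℕ → ℕ := rowOf Vtree (nat_lit 5) (nat_lit 31) (nat_lit 6) (nat_lit 0x3f)

noncomputable def St0 : BT := .leaf (nat_lit 0xb931026c1c90be2a3826531074)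

noncomputable def Stree : BT := St0

noncomputable def S : ℕ → ℕ := rowOf Stree (nat_lit 5) (nat_lit 31) (nat_lit 5) (nat_lit 0x1f)

/-- the format -/
abbrev P : Fm := ⟨2, 1, 2, 3⟩

def Cs : List (List ℕ) := [[nat_lit 0x1, nat_lit 0x2, nat_lit 0x5, nat_lit 0xa, nat_lit 0x10, nat_lit 0x20],
  [nat_lit 0x1, nat_lit 0x2, nat_lit 0x6, nat_lit 0xb, nat_lit 0x10, nat_lit 0x20],
  [nat_lit 0x4, nat_lit 0x8, nat_lit 0x10, nat_lit 0x20, nat_lit 0x1, nat_lit 0x2]]

def CU : List ℕ := [nat_lit 0x11, nat_lit 0x22, nat_lit 0x21, nat_lit 0x32, nat_lit 0x4, nat_lit 0x8]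

def CW : List ℕ := [nat_lit 0xb, nat_lit 0x10, nat_lit 0xa]

def CI : List ℕ := [nat_lit 0x1, nat_lit 0x2, nat_lit 0x4, nat_lit 0x8, nat_lit 0x10, nat_lit 0x20]

def Bs : List ℕ := [nat_lit 0, nat_lit 1, nat_lit 3]

def Ss : List (List ℕ) := [[nat_lit 0x1, nat_lit 0x2, nat_lit 0x4, nat_lit 0x8, nat_lit 0x10, nat_lit 0x20],
  [nat_lit 0x2, nat_lit 0x3, nat_lit 0x8, nat_lit 0xc, nat_lit 0x20, nat_lit 0x30],
  [nat_lit 0x3, nat_lit 0x1, nat_lit 0xc, nat_lit 0x4, nat_lit 0x30, nat_lit 0x10]]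

noncomputable def E : List ℕ → ℕ → ℕ → Bool := anyE xE Ss

noncomputable def ok : ℕ → Bool := okL P

noncomputable def vchkf : ℕ → Bool := rowChk ok E Cs [nat_lit 0, nat_lit 1, nat_lit 2] V T (nat_lit 21)

noncomputable def schkf : ℕ → Bool := sortB V S (nat_lit 21)

theorem vchkb0 : allR vchkf 5 0 = true := by decide +kernel
theorem schkb0 : allR schkf 5 0 = true := by decide +kernel

theorem vchk : ∀ c < 21, vchkf c = true := fun c hc =>
  allR_glue (d := 5) (n := 1) (forall_lt_succ' forall_lt_zero' vchkb0) c (lt_of_lt_of_le hc (by norm_num))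

theorem schk : ∀ c < 21, schkf c = true := fun c hc =>
  allR_glue (d := 5) (n := 1) (forall_lt_succ' forall_lt_zero' schkb0) c (lt_of_lt_of_le hc (by norm_num))

theorem data : Vec.LineData P E Cs 3 21 T (nat_lit 4) Bs CU CI V :=
  ⟨S, CW, nat_lit 0x1b, vchk, schk, by decide +kernel, by decide +kernel⟩

/-- the numbering of the coordinates -/
def e : Fin 3 ≃ Fin P.n := Equiv.refl _

/-- the matrices -/
noncomputable def M (i : ℕ) : Matrix (Fin 3) (Fin 3) (R4) := Vec.mat P e (qw 2 1 1) (nthW Cs i)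

theorem cod : Vec.AllCod P e (qw 2 1 1) Cs 3 CU CI :=
  ⟨by decide +kernel, by decide +kernel, by decide +kernel⟩

theorem snd {F : Type*} [Field F] {φ : R4 →+* F} (h : Emb φ 2 2 (qw 2 1 1)) :
    Vec.SoundL P e (φ (qw 2 1 1)) ⊤ E :=
  Vec.soundL_top φ (Vec.sound_xE rfl (by exact_mod_cast h.char)) (by decide) (as := [(⟨1, 0⟩, ⟨1, 0⟩), (⟨0, 1⟩, ⟨1, 1⟩), (⟨1, 1⟩, ⟨0, 1⟩)])
    (by decide +kernel)

theorem model {F : Type*} [Field F] {φ : R4 →+* F} (h : Emb φ 2 2 (qw 2 1 1))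
    {G : Type*} [Group G] (ρ : G →* Matrix (Fin 3) (Fin 3) F) (hρ : Function.Injective ρ)
    (hz : ∀ z ∈ Subgroup.center G, ∃ a : F, ρ z = a • 1) (hg : ∀ i < 3, ∃ x, ρ x = (M i).map φ) :
    ∃ K : Subgroup (G ⧸ Subgroup.center G), Model K 21 3 T (nat_lit 4 :: Bs) :=
  data.model' φ (by decide) (by decide) (by decide) h.indep (snd h) cod ρ hρ hz hg

end Cfsg.Agent.H3.L34
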